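import Groth.Agent.SmDesc.Ring
import Groth.Agent.LimMore.Smooth
import Groth.Agent.GrpLoc.BaseChange
import Groth.Agent.GrpField.FlatPoint
import Mathlib.AlgebraicGeometry.Morphisms.LocalFlatDescent

/-!
# The smooth locus and base change
-/

universe u

open CategoryTheory CategoryTheory.Limits AlgebraicGeometry TensorProduct

set_option backward.isDefEq.respectTransparency false
set_option linter.style.haveILetI false

namespace Groth.Agent.SmDesc

variable {X S X' S' : Scheme.{u}} {f : X ⟶ S} {g : S' ⟶ S} {f' : X' ⟶ S'} {g' : X' ⟶ X}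

instance lfp_fiber (f : X ⟶ S) [LocallyOfFinitePresentation f] (y : S) :
    LocallyOfFinitePresentation (f.fiberToSpecResidueField y) :=
  inferInstanceAs (LocallyOfFinitePresentation (pullback.snd f (S.fromSpecResidueField y)))

theorem smooth_smoothLocus (f : X ⟶ S) [LocallyOfFinitePresentation f] :
    Smooth (f.smoothLocus.ι ≫ f) := by
  rw [← Scheme.Hom.smoothLocus_eq_top_iff, ← Scheme.Hom.preimage_smoothLocus_eq f.smoothLocus.ι f,
    Scheme.Opens.ι_preimage_self]

theorem mem_smoothLocus_of_smooth_ι (f : X ⟶ S) [LocallyOfFinitePresentation f] {U : X.Opens}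
    [Smooth (U.ι ≫ f)] {x : X} (hx : x ∈ U) : x ∈ f.smoothLocus := by
  have h : (⟨x, hx⟩ : U) ∈ (U.ι ≫ f).smoothLocus := by
    rw [Scheme.Hom.smoothLocus_eq_top]; trivial
  rw [← Scheme.Hom.preimage_smoothLocus_eq] at h
  exact h

/-- base change preserves the smooth locus -/
theorem preimage_smoothLocus_le (sq : IsPullback g' f' f g) [LocallyOfFinitePresentation f]
    [LocallyOfFinitePresentation f'] : g' ⁻¹ᵁ f.smoothLocus ≤ f'.smoothLocus := by
  intro x hx
  have h : Smooth ((g' ⁻¹ᵁ f.smoothLocus).ι ≫ f') :=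
    MorphismProperty.of_isPullback ((isPullback_morphismRestrict g' f.smoothLocus).paste_vert sq)
      (smooth_smoothLocus f)
  exact mem_smoothLocus_of_smooth_ι f' hx

/-- smoothness descends along a flat base change -/
theorem mem_smoothLocus_of_isPullback (sq : IsPullback g' f' f g) [LocallyOfFinitePresentation f]
    [LocallyOfFinitePresentation f'] [Flat g] {x' : X'} (h : x' ∈ f'.smoothLocus) :
    g' x' ∈ f.smoothLocus := by
  obtain ⟨V, hV, hxV, -⟩ := exists_isAffineOpen_mem_and_subset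
    (show f (g' x') ∈ (⊤ : S.Opens) from trivial)
  obtain ⟨U, hU, hxU, hUV⟩ := exists_isAffineOpen_mem_and_subset (show g' x' ∈ f ⁻¹ᵁ V from hxV)
  obtain ⟨V', hV', hxV', hV'V⟩ := exists_isAffineOpen_mem_and_subset
    (show f' x' ∈ g ⁻¹ᵁ V by
      change g (f' x') ∈ V
      rw [← Scheme.Hom.comp_apply, ← sq.w, Scheme.Hom.comp_apply]
      exact hxV)
  have hl1 : U ≤ f ⁻¹ᵁ V := hUV
  have hl2 : V' ≤ g ⁻¹ᵁ V := hV'V
  let W := g' ⁻¹ᵁ U ⊓ f' ⁻¹ᵁ V'
  have hW : IsAffineOpen W := by
    haveI : IsAffine _ := hV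
    haveI : IsAffine _ := hV'
    haveI : IsAffine _ := hU
    exact .of_isIso (Scheme.Hom.isPullback_resLE sq hl2 hl1 (UY := W) rfl).isoPullback.hom
  have hpo := (isIso_pushoutSection_iff sq hl2 hl1 (UY := W) rfl).1
    (isIso_pushoutSection_of_isAffineOpen sq hl2 hl1 rfl hV hV' hU)
  have hxW : x' ∈ W := ⟨hxU, hxV'⟩
  have hfl := g.flat_appLE hV hV' hl2
  have hfp := f.finitePresentation_appLE hV hU hl1
  rw [Scheme.Hom.mem_smoothLocus, formallySmooth_stalkMap_iff V' hV' W hW inf_le_right hxW] at h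
  rw [Scheme.Hom.mem_smoothLocus, formallySmooth_stalkMap_iff V hV U hU hl1 hxU]
  algebraize [(f.appLE V U hl1).hom, (g.appLE V V' hl2).hom, (g'.appLE U W inf_le_left).hom,
    (f'.appLE V' W inf_le_right).hom, ((g'.appLE U W inf_le_left).hom).comp (f.appLE V U hl1).hom]
  haveI : IsScalarTower Γ(S, V) Γ(S', V') Γ(X', W) := .of_algebraMap_eq' congr($(hpo.w).hom)
  haveI hp : Algebra.IsPushout Γ(S, V) Γ(X, U) Γ(S', V') Γ(X', W) :=
    CommRingCat.isPushout_iff_isPushout.mp hpo
  haveI : Algebra.IsPushout Γ(S, V) Γ(S', V') Γ(X, U) Γ(X', W) := Algebra.IsPushout.symm inferInstance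
  let e : Γ(S', V') ⊗[Γ(S, V)] Γ(X, U) ≃ₐ[Γ(S', V')] Γ(X', W) :=
    Algebra.IsPushout.equiv Γ(S, V) Γ(S', V') Γ(X, U) Γ(X', W)
  letI : Algebra (Γ(S', V') ⊗[Γ(S, V)] Γ(X, U)) Γ(X', W) := e.toRingHom.toAlgebra
  haveI : IsScalarTower Γ(S', V') (Γ(S', V') ⊗[Γ(S, V)] Γ(X, U)) Γ(X', W) :=
    .of_algebraMap_eq fun r => (e.commutes r).symm
  haveI : IsLocalization.Away (1 : Γ(S', V') ⊗[Γ(S, V)] Γ(X, U)) Γ(X', W) :=
    IsLocalization.away_of_isUnit_of_bijective _ isUnit_one e.bijective
  rw [← Algebra.smoothLocus_comap_of_isLocalization (R := Γ(S', V'))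
    (1 : Γ(S', V') ⊗[Γ(S, V)] Γ(X, U))] at h
  have h' := isSmoothAt_of_tensor _ h
  have hc : IsAffineOpen.primeIdealOf hU ⟨g' x', hxU⟩ = PrimeSpectrum.comap
      (algebraMap Γ(X, U) Γ(X', W)) (hW.primeIdealOf ⟨x', hxW⟩) :=
    (IsAffineOpen.comap_primeIdealOf_appLE (f := g') U hU W hW inf_le_left hxW).symm
  rw [hc]
  have he : (algebraMap (Γ(S', V') ⊗[Γ(S, V)] Γ(X, U)) Γ(X', W)).comp
      (Algebra.TensorProduct.includeRight : Γ(X, U) →ₐ[Γ(S, V)] _).toRingHom =
        algebraMap Γ(X, U) Γ(X', W) := by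
    ext a
    show e ((1 : Γ(S', V')) ⊗ₜ a) = _
    simp [e, Algebra.IsPushout.equiv_tmul]
  rw [← he, PrimeSpectrum.comap_comp]
  exact h'

/-- smoothness of a flat morphism at a point is a property of the fibre -/
theorem mem_smoothLocus_of_flat_fibre [LocallyOfFinitePresentation f] [Flat f] {x : X} {y : S}
    (z : ↥(f.fiber y)) (hz : f.fiberι y z = x)
    (h : z ∈ (f.fiberToSpecResidueField y).smoothLocus) : x ∈ f.smoothLocus := by
  have hy : f x = y := by
    rw [← hz]
    have : f.fiberι y z ∈ Set.range (f.fiberι y) := ⟨z, rfl⟩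
    rwa [f.range_fiberι] at this
  obtain ⟨W₀, hW₀, hW₀e⟩ := (f.fiberι y).isEmbedding.isInducing.isOpen_iff.1
    (f.fiberToSpecResidueField y).smoothLocus.isOpen
  let U : X.Opens := ⟨W₀, hW₀⟩
  have hxU : x ∈ U := by
    rw [← hz]
    exact (Set.ext_iff.1 hW₀e z).2 h
  have hs : Smooth ((U.ι ≫ f).fiberToSpecResidueField y) := by
    have sq : IsPullback (f.fiberι y) (f.fiberToSpecResidueField y) f (S.fromSpecResidueField y) :=
      IsPullback.of_hasPullback f (S.fromSpecResidueField y)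
    have hpb := (isPullback_morphismRestrict (f.fiberι y) U).paste_vert sq
    have h1 : Smooth ((f.fiberι y ⁻¹ᵁ U).ι ≫ f.fiberToSpecResidueField y) := by
      have : f.fiberι y ⁻¹ᵁ U = (f.fiberToSpecResidueField y).smoothLocus :=
        TopologicalSpace.Opens.ext hW₀e
      rw [this]
      exact smooth_smoothLocus _
    have h2 : (U.ι ≫ f).fiberToSpecResidueField y =
        hpb.isoPullback.inv ≫ (f.fiberι y ⁻¹ᵁ U).ι ≫ f.fiberToSpecResidueField y :=
      hpb.isoPullback_inv_snd.symm
    rw [h2, MorphismProperty.cancel_left_of_respectsIso @Smooth]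
    exact h1
  have := LimMore.mem_smoothLocus_of_smooth_fiber (U.ι ≫ f) ⟨x, hxU⟩
    (by rw [show (U.ι ≫ f) (⟨x, hxU⟩ : U) = y from hy]; exact hs)
  rw [← Scheme.Hom.preimage_smoothLocus_eq] at this
  exact this

/-- **The smooth locus commutes with base change along a flat map, or for a flat morphism.** -/
theorem smoothLocus_eq_preimage (sq : IsPullback g' f' f g) [LocallyOfFinitePresentation f]
    [LocallyOfFinitePresentation f'] (hflat : Flat f ∨ Flat g) :
    f'.smoothLocus = g' ⁻¹ᵁ f.smoothLocus := by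
  refine le_antisymm (fun x' hx' => ?_) (preimage_smoothLocus_le sq)
  rcases hflat with hf | hg
  swap
  · exact mem_smoothLocus_of_isPullback sq hx'
  let y' := f' x'
  have sq' := isPullback_fiberToSpecResidueField_of_isPullback sq y'
  have hfl : Flat (Spec.map (g.residueFieldMap y')) :=
    Flat.SpecMap_iff.2 (RingHom.Flat.of_isField (Field.toIsField _) _)
  let z' : ↥(f'.fiber y') := f'.asFiber x'
  have hz' : z' ∈ (f'.fiberToSpecResidueField y').smoothLocus :=
    preimage_smoothLocus_le (IsPullback.of_hasPullback f' (S'.fromSpecResidueField y'))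
      (show f'.fiberι y' z' ∈ f'.smoothLocus by rw [Scheme.Hom.fiberι_asFiber]; exact hx')
  let m : f'.fiber y' ⟶ f.fiber (g y') :=
    pullback.map f' (S'.fromSpecResidueField y') f (S.fromSpecResidueField (g y')) g'
      (Spec.map (g.residueFieldMap y')) g sq.w.symm (by simp)
  have hm : m ≫ f.fiberι (g y') = f'.fiberι y' ≫ g' := pullback.lift_fst _ _ _
  have hz : m z' ∈ (f.fiberToSpecResidueField (g y')).smoothLocus :=
    mem_smoothLocus_of_isPullback sq' hz'
  have hzx : f.fiberι (g y') (m z') = g' x' :=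
    (congrArg (fun k : f'.fiber y' ⟶ X => k z') hm).trans (congrArg g' (f'.fiberι_asFiber x'))
  exact mem_smoothLocus_of_flat_fibre (f := f) (m z') hzx hz

/-- smoothness descends along a base change by a map flat at the point -/
theorem mem_smoothLocus_of_flatAt (sq : IsPullback g' f' f g) [LocallyOfFinitePresentation f]
    [LocallyOfFinitePresentation f'] {x' : X'} (hg : (g.stalkMap (f' x')).hom.Flat)
    (h : x' ∈ f'.smoothLocus) : g' x' ∈ f.smoothLocus := by
  let j := S'.fromSpecStalk (f' x')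
  have : Flat (j ≫ g) := by
    rw [← Scheme.SpecMap_stalkMap_fromSpecStalk]
    have : Flat (Spec.map (g.stalkMap (f' x'))) := Flat.SpecMap_iff.2 hg
    have := GrpField.flat_fromSpecStalk (g (f' x'))
    infer_instance
  have : LocallyOfFinitePresentation (pullback.snd f' j) := inferInstance
  obtain ⟨x'', hx'', -⟩ := Scheme.Pullback.exists_preimage_pullback (f := f') (g := j) x'
    (IsLocalRing.closedPoint _) Scheme.fromSpecStalk_closedPoint.symm
  have h' : x'' ∈ (pullback.snd f' j).smoothLocus :=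
    preimage_smoothLocus_le (IsPullback.of_hasPullback f' j)
      (show pullback.fst f' j x'' ∈ f'.smoothLocus by rw [hx'']; exact h)
  have := mem_smoothLocus_of_isPullback ((IsPullback.of_hasPullback f' j).paste_horiz sq) h'
  rwa [Scheme.Hom.comp_apply, hx''] at this

end Groth.Agent.SmDesc
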