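import Mathlib.RingTheory.Smooth.Locus
import Mathlib.RingTheory.Extension.Cotangent.BaseChange
import Mathlib.RingTheory.Etale.Kaehler
import Mathlib.RingTheory.Kaehler.TensorProduct
import Mathlib.RingTheory.Flat.Localization
import Mathlib.RingTheory.Flat.FaithfullyFlat.Algebra
import Mathlib.LinearAlgebra.TensorProduct.Tower

/-!
# Smoothness at a prime descends along flat base change
-/

universe u

open TensorProduct

set_option linter.style.haveILetI false

namespace Groth.Agent.SmDesc

variable {R S T : Type u} [CommRing R] [CommRing S] [CommRing T] [Algebra R S] [Algebra R T]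
  [Module.Flat R T]

attribute [local instance] Algebra.TensorProduct.rightAlgebra

theorem tensorH1_smul (x : Algebra.H1Cotangent R S) (s : T ⊗[R] S) :
    Algebra.tensorH1CotangentOfFlat R S T
      (((LinearMap.toSpanSingleton S (Algebra.H1Cotangent R S) x).restrictScalars R).lTensor T s) =
      s • Algebra.H1Cotangent.map R T S (T ⊗[R] S) x := by
  induction s using TensorProduct.induction_on with
  | zero => simp
  | add a b ha hb => simp only [map_add, ha, hb, add_smul]
  | tmul t b =>
    rw [LinearMap.lTensor_tmul, Algebra.tensorH1CotangentOfFlat_tmul]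
    show t • Algebra.H1Cotangent.map R T S (T ⊗[R] S) (b • x) = _
    rw [map_smul, ← algebraMap_smul (T ⊗[R] S) t, ← algebraMap_smul (T ⊗[R] S) b, smul_smul]
    congr 1
    show (t ⊗ₜ[R] (1 : S)) * ((1 : T) ⊗ₜ[R] b) = t ⊗ₜ b
    rw [Algebra.TensorProduct.tmul_mul_tmul, mul_one, one_mul]

theorem notMem_support_H1 (Q : PrimeSpectrum (T ⊗[R] S))
    (h : Q ∉ Module.support (T ⊗[R] S) (Algebra.H1Cotangent T (T ⊗[R] S))) :
    PrimeSpectrum.comap (algebraMap S (T ⊗[R] S)) Q ∉ Module.support S (Algebra.H1Cotangent R S) := by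
  rw [Module.notMem_support_iff'] at h ⊢
  intro x
  obtain ⟨s, hs, hs0⟩ := h (Algebra.H1Cotangent.map R T S (T ⊗[R] S) x)
  let l : S →ₗ[R] Algebra.H1Cotangent R S :=
    (LinearMap.toSpanSingleton S (Algebra.H1Cotangent R S) x).restrictScalars R
  let j : LinearMap.ker l →ₗ[R] S := (LinearMap.ker l).subtype
  have hex : Function.Exact j l := fun c => by simp [j]
  have h0 : l.lTensor T s = 0 :=
    (Algebra.tensorH1CotangentOfFlat R S T).injective (by rw [tensorH1_smul, hs0, map_zero])
  obtain ⟨z, hz⟩ := (Module.Flat.lTensor_exact T hex _).1 h0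
  by_contra hne
  push Not at hne
  refine hs (show s ∈ Q.asIdeal from hz ▸ ?_)
  clear hz
  induction z using TensorProduct.induction_on with
  | zero => simp
  | add a b ha hb => rw [map_add]; exact add_mem ha hb
  | tmul t c =>
    rw [LinearMap.lTensor_tmul,
      show t ⊗ₜ[R] j c = (t ⊗ₜ[R] (1 : S)) * algebraMap S (T ⊗[R] S) (j c) by
        show _ = (t ⊗ₜ[R] (1 : S)) * ((1 : T) ⊗ₜ[R] (j c))
        rw [Algebra.TensorProduct.tmul_mul_tmul, mul_one, one_mul]]
    refine Ideal.mul_mem_left _ _ (show j c ∈ (PrimeSpectrum.comap (algebraMap S (T ⊗[R] S)) Q).asIdeal from ?_)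
    by_contra hc
    exact hne (j c) hc c.2

theorem mem_freeLocus_kaehler [Algebra.EssFiniteType R S] (Q : PrimeSpectrum (T ⊗[R] S))
    (h : Q ∈ Module.freeLocus (T ⊗[R] S) Ω[(T ⊗[R] S)⁄T]) :
    PrimeSpectrum.comap (algebraMap S (T ⊗[R] S)) Q ∈ Module.freeLocus S Ω[S⁄R] := by
  let S' := T ⊗[R] S
  let q := (PrimeSpectrum.comap (algebraMap S S') Q).asIdeal
  let A := Localization.AtPrime q
  let B := Localization.AtPrime Q.asIdeal
  letI : Algebra A B := (Localization.localRingHom q Q.asIdeal (algebraMap S S') rfl).toAlgebra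
  haveI : IsScalarTower S A B := .of_algebraMap_eq fun x => by
    show _ = Localization.localRingHom q Q.asIdeal (algebraMap S S') rfl (algebraMap S A x)
    rw [Localization.localRingHom_to_map]
    exact IsScalarTower.algebraMap_apply S S' B x
  haveI : IsLocalHom (algebraMap A B) :=
    inferInstanceAs (IsLocalHom (Localization.localRingHom q Q.asIdeal (algebraMap S S') rfl))
  haveI : Module.Flat S S' := by
    have hp : Algebra.IsPushout R S T S' := Algebra.IsPushout.symm (inferInstanceAs (Algebra.IsPushout R T S S'))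
    exact Module.Flat.isBaseChange (R := R) (S := S) (M := T) (N := S') hp.out
  haveI : Module.Flat S' B := IsLocalization.flat B Q.asIdeal.primeCompl
  haveI : Module.Flat S B := Module.Flat.trans S S' B
  haveI : Module.Flat A B := (Module.flat_iff_of_isLocalization A q.primeCompl B).2 inferInstance
  haveI : Module.FaithfullyFlat A B := Module.FaithfullyFlat.of_flat_of_isLocalHom
  rw [Module.mem_freeLocus] at h ⊢
  haveI : Module.Free B (B ⊗[S'] Ω[S'⁄T]) :=
    h.of_equiv' (LocalizedModule.equivTensorProduct Q.asIdeal.primeCompl Ω[S'⁄T])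
  let e : B ⊗[A] (A ⊗[S] Ω[S⁄R]) ≃ₗ[B] B ⊗[S'] Ω[S'⁄T] :=
    AlgebraTensorModule.cancelBaseChange S A B B Ω[S⁄R] ≪≫ₗ
      (AlgebraTensorModule.cancelBaseChange S S' B B Ω[S⁄R]).symm ≪≫ₗ
      AlgebraTensorModule.congr (LinearEquiv.refl B B) (KaehlerDifferential.tensorKaehlerEquiv R T S S')
  haveI : Module.Free B (B ⊗[A] (A ⊗[S] Ω[S⁄R])) := Module.Free.of_equiv e.symm
  haveI : Module.Flat A (A ⊗[S] Ω[S⁄R]) := Module.Flat.of_flat_tensorProduct A _ B
  haveI : Module.Free A (A ⊗[S] Ω[S⁄R]) := Module.free_of_flat_of_isLocalRing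
  exact (inferInstance : Module.Free A (A ⊗[S] Ω[S⁄R])).of_equiv'
    (LocalizedModule.equivTensorProduct q.primeCompl Ω[S⁄R]).symm

theorem isSmoothAt_of_tensor [Algebra.FinitePresentation R S] (Q : PrimeSpectrum (T ⊗[R] S))
    (h : Q ∈ Algebra.smoothLocus T (T ⊗[R] S)) :
    PrimeSpectrum.comap (algebraMap S (T ⊗[R] S)) Q ∈ Algebra.smoothLocus R S := by
  rw [Algebra.smoothLocus_eq_compl_support_inter] at h ⊢
  exact ⟨notMem_support_H1 Q h.1, mem_freeLocus_kaehler Q h.2⟩

end Groth.Agent.SmDesc
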